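import Groth.Agent.VBCurve.K553.SubDefs2
import Groth.Agent.S19179
import Groth.Agent.Zeta.K356.Cut
import Groth.Agent.Old.H24.LinearSeries
import Groth.Agent.CurvesB.SubEuler

/-!
# SUB-INV: the modules `D a b` and `tw N l y` are invertible; the degree of `twp N x`
-/

set_option autoImplicit false
universe u
open CategoryTheory CategoryTheory.Limits AlgebraicGeometry

namespace Groth.Agent.VBCurve.K569.SubInv

open Groth.Agent

/-- A section of a smooth separated relative curve is an effective Cartier divisor. -/
theorem isEff_section {X S : Scheme.{u}} (f : X ⟶ S) [SmoothOfRelativeDimension 1 f] (x : S ⟶ X)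
    [IsClosedImmersion x] (hx : x ≫ f = 𝟙 S) : BlowUp.IsEffCartierIdeal x.ker := by
  refine ((S1184.result f x.ker).2 ?_).1
  obtain ⟨e, he, h⟩ := Picfga.SecGraph.exists_iso_ker_subscheme x
  rw [← h, Category.assoc, hx, Category.comp_id]
  exact ⟨inferInstance, inferInstance, inferInstance⟩

/-- A section of a separated morphism is a closed immersion. -/
theorem isClosedImmersion_section {X S : Scheme.{u}} (f : X ⟶ S) [IsSeparated f] (x : S ⟶ X)
    (hx : x ≫ f = 𝟙 S) : IsClosedImmersion x := by
  have : IsClosedImmersion (x ≫ f) := by rw [hx]; infer_instance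
  exact IsClosedImmersion.of_comp x f

open K553.Sub

section field

variable {k : Type u} [Field k] [IsAlgClosed k] (C : Over (Spec (CommRingCat.of k)))
  [IsIntegral C.left] [IsProper C.hom] [Smooth C.hom] (hdim : topologicalKrullDim C.left = 1)

include hdim in
omit [IsAlgClosed k] [IsProper C.hom] in
theorem smooth_one : SmoothOfRelativeDimension 1 C.hom :=
  Picfga.CurveRelDim.smoothOfRelativeDimension_of_topologicalKrullDim_eq k C.left C.hom 1 (by simpa using hdim)

include hdim in
omit [IsAlgClosed k] in
theorem isEff_diag : BlowUp.IsEffCartierIdeal (pullback.diagonal C.hom).ker :=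
  have := smooth_one C hdim
  S19179.isEff_diagonal C.hom

include hdim in
theorem isInvertible_diagMod : PicF.IsInvertible (diagMod C) :=
  Dix.IdealModCartier.isInvertible_idealMod (isEff_diag C hdim)

omit [IsAlgClosed k] [IsIntegral C.left] [IsProper C.hom] [Smooth C.hom] in
/-- The preimage of the diagonal under `c ↦ (x, c)` is the point `x`. -/
theorem isPullback_pt (x : pt (Spec (CommRingCat.of k)) ⟶ C) :
    IsPullback x.left x.left (pullback.diagonal C.hom) (pair (cst x) (𝟙 C)) := by
  have hx : x.left ≫ C.hom = 𝟙 _ := Over.w x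
  have h1 : pair (cst x) (𝟙 C) ≫ pullback.fst C.hom C.hom = C.hom ≫ x.left := pullback.lift_fst _ _ _
  have h2 : pair (cst x) (𝟙 C) ≫ pullback.snd C.hom C.hom = 𝟙 C.left := pullback.lift_snd _ _ _
  refine ⟨⟨?_⟩, ⟨PullbackCone.IsLimit.mk _ (fun s => s.snd ≫ C.hom) ?_ ?_ ?_⟩⟩
  · apply pullback.hom_ext
    · rw [Category.assoc, Category.assoc, pullback.diagonal_fst, h1, reassoc_of% hx, Category.comp_id]
    · rw [Category.assoc, Category.assoc, pullback.diagonal_snd, h2]
  · intro s
    have h3 := congrArg (fun φ => φ ≫ pullback.fst C.hom C.hom) s.condition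
    rw [Category.assoc, Category.assoc, pullback.diagonal_fst, h1, Category.comp_id] at h3
    rw [Category.assoc, h3]
  · intro s
    have h3 := congrArg (fun φ => φ ≫ pullback.fst C.hom C.hom) s.condition
    have h4 := congrArg (fun φ => φ ≫ pullback.snd C.hom C.hom) s.condition
    rw [Category.assoc, Category.assoc, pullback.diagonal_fst, h1, Category.comp_id] at h3
    rw [Category.assoc, Category.assoc, pullback.diagonal_snd, h2, Category.comp_id, Category.comp_id] at h4
    rw [Category.assoc, ← h3, h4]
  · intro s m h3 h4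
    rw [← h4, Category.assoc, hx, Category.comp_id]

omit [IsAlgClosed k] [Smooth C.hom] [IsIntegral C.left] in
theorem ker_comap_pt (x : pt (Spec (CommRingCat.of k)) ⟶ C) :
    (pullback.diagonal C.hom).ker.comap (pair (cst x) (𝟙 C)) = x.left.ker :=
  (Picfga.SecGraph.ker_eq_comap_of_isPullback (isPullback_pt C x)).symm

include hdim in
/-- `D x id` is the ideal module of `x`. -/
theorem nonempty_D_cst (x : pt (Spec (CommRingCat.of k)) ⟶ C) :
    Nonempty (D (cst x) (𝟙 C) ≅ ClSub.idealMod x.left.ker) := by
  have := smooth_one C hdim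
  have hx : x.left ≫ C.hom = 𝟙 _ := Over.w x
  have hcl := isClosedImmersion_section C.hom x.left hx
  have h1 := isEff_section C.hom x.left hx
  have h2 := ker_comap_pt C x
  have h3 := Dix.IdealModCartier.pullback_idealMod (pair (cst x) (𝟙 C)) (isEff_diag C hdim) (by rw [h2]; exact h1)
  rw [h2] at h3
  exact h3

include hdim in
theorem deg_D_cst (x : pt (Spec (CommRingCat.of k)) ⟶ C) : Curv2.deg k C.left (D (cst x) (𝟙 C)) 1 = -1 := by
  have := smooth_one C hdim
  have hx : x.left ≫ C.hom = 𝟙 _ := Over.w x
  have hcl := isClosedImmersion_section C.hom x.left hx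
  have h1 := isEff_section C.hom x.left hx
  obtain ⟨e⟩ := nonempty_D_cst C hdim x
  have hp : IsProper (C.left ↘ Spec (CommRingCat.of k)) := ‹IsProper C.hom›
  rw [CurvesB.SubEuler.deg_congr k e 1]
  exact Zeta.K356.Cut.deg_ideal_point k hdim x.left hx h1

end field

end Groth.Agent.VBCurve.K569.SubInv

namespace K553.Sub

open Groth.Agent Groth.Agent.VBCurve.K569.SubInv

section field

variable {k : Type u} [Field k] [IsAlgClosed k] (C : Over (Spec (CommRingCat.of k)))
  [IsIntegral C.left] [IsProper C.hom] [Smooth C.hom] (hdim : topologicalKrullDim C.left = 1)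

include hdim in
theorem isInvertible_D {T : Over (Spec (CommRingCat.of k))} (a b : T ⟶ C) : PicF.IsInvertible (D a b) :=
  Fdesc.LocGen.isInvertible_pullback _ (isInvertible_diagMod C hdim)

include hdim in
theorem isInvertible_tw {T : Over (Spec (CommRingCat.of k))} (N : C.left.Modules) (hN : PicF.IsInvertible N)
    (l : List (T ⟶ C)) (y : T ⟶ C) : PicF.IsInvertible (tw N l y) := by
  induction l with
  | nil => exact Fdesc.LocGen.isInvertible_pullback _ hN
  | cons z l ih => exact Fdesc.LocGen.isInvertible_tensorMod (isInvertible_D C hdim z y) ih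

include hdim in
theorem deg_twp (N : C.left.Modules) (hN : PicF.IsInvertible N) (x : List (pt (Spec (CommRingCat.of k)) ⟶ C)) :
    Curv2.deg k C.left (twp N x) 1 = Curv2.deg k C.left N 1 - x.length := by
  have hp : IsProper (C.left ↘ Spec (CommRingCat.of k)) := ‹IsProper C.hom›
  induction x with
  | nil =>
    have e : twp N ([] : List (pt (Spec (CommRingCat.of k)) ⟶ C)) ≅ N :=
      (Scheme.Modules.pullbackId C.left).app N
    rw [CurvesB.SubEuler.deg_congr k e 1]
    simp
  | cons z l ih =>
    have h1 : Curv2.deg k C.left (CohB1.tensorMod (D (cst z) (𝟙 C)) (twp N l)) 1 =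
        Curv2.deg k C.left (D (cst z) (𝟙 C)) 1 + Curv2.deg k C.left (twp N l) 1 :=
      Old.H24.LinearSeries.deg_tensor k hdim.le (isInvertible_D C hdim _ _) (isInvertible_tw C hdim N hN _ _)
    change Curv2.deg k C.left (CohB1.tensorMod (D (cst z) (𝟙 C)) (twp N l)) 1 = _
    rw [h1, ih, deg_D_cst C hdim, List.length_cons]
    push_cast
    ring

end field

end K553.Sub
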